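import Cfsg.Agent.H78.Pw.Base

/-!
# S2465, piece CNT: `All p G` by counting the `p`-singular elements

* `card_sing_le` : if every element of order `p` is conjugate into one of the subgroups `Q i` (of order `p`), then the number of
  elements of order divisible by `p` is at most `∑ i, |G : N(Q i)| * #{g ∈ C(Q i) | Q i ≤ ⟨g⟩}`.
* `all_of_sum` : `∑ i, 1 / |N(Q i) : C(Q i)| ≤ 1/2` implies `All p G`.
* `all_of_one` : one class of subgroups of order `p`, `N(Q) ≠ C(Q)`.
* `all_of_cyclic` : `G` simple nonabelian (or only: not `p`-nilpotent), cyclic Sylow `p`-subgroup, any `p`.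
* `all_of_not_sq_dvd` : `G` simple nonabelian, `p ^ 2 ∤ |G|`.
-/

set_option autoImplicit false

namespace Cfsg.Agent.H643.PwCnt

open Subgroup Cfsg.Agent.H78.Pw

universe u

variable {G : Type u} [Group G] {p : ℕ}

/-- the generator of the subgroup of order `p` of `⟨g⟩` -/
theorem orderOf_root [Finite G] {g : G} (hg : p ∣ orderOf g) :
    orderOf (g ^ (orderOf g / p)) = p :=
  orderOf_pow_orderOf_div (orderOf_pos g).ne' hg

theorem zpowers_eq_of_mem [Finite G] {Q : Subgroup G} (hQ : Nat.card Q = p) {y : G}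
    (hy : orderOf y = p) (h : y ∈ Q) : zpowers y = Q := by
  apply Subgroup.eq_of_le_of_card_ge (by rwa [zpowers_le])
  rw [hQ, Nat.card_zpowers, hy]

/-- **The counting lemma.** -/
theorem card_sing_le [Finite G] {ι : Type*} [Fintype ι] (hp : p.Prime) (Q : ι → Subgroup G)
    (hQ : ∀ i, Nat.card (Q i) = p)
    (hcov : ∀ y : G, orderOf y = p → ∃ i, ∃ x : G, x * y * x⁻¹ ∈ Q i) :
    Nat.card {g : G // p ∣ orderOf g} ≤
      ∑ i, (normalizer (Q i : Set G)).index *
        Nat.card {c : G // c ∈ centralizer (Q i : Set G) ∧ Q i ≤ zpowers c} := by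
  classical
  have hkey : ∀ g : {g : G // p ∣ orderOf g}, ∃ z : (Σ i, (G ⧸ normalizer (Q i : Set G)) ×
      {c : G // c ∈ centralizer (Q i : Set G) ∧ Q i ≤ zpowers c}),
      (g : G) = z.2.1.out * (z.2.2 : G) * z.2.1.out⁻¹ := by
    rintro ⟨g, hg⟩
    obtain ⟨i, x, hx⟩ := hcov (g ^ (orderOf g / p)) (orderOf_root hg)
    set y : G := g ^ (orderOf g / p) with hy
    have hyo : orderOf y = p := orderOf_root hg
    have hyo' : orderOf (x * y * x⁻¹) = p := by
      rw [← hyo]
      exact (orderOf_injective (MulAut.conj x).toMonoidHom (MulAut.conj x).injective y)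
    have hz : zpowers (x * y * x⁻¹) = Q i := zpowers_eq_of_mem (hQ i) hyo' hx
    let t : G ⧸ normalizer (Q i : Set G) := QuotientGroup.mk x⁻¹
    obtain ⟨n, hn⟩ := QuotientGroup.mk_out_eq_mul (normalizer (Q i : Set G)) x⁻¹
    have hn' : t.out = x⁻¹ * n := hn
    -- the element `y' = n⁻¹ (x y x⁻¹) n` generates `Q i`
    have hc : t.out⁻¹ * y * t.out = (n : G)⁻¹ * (x * y * x⁻¹) * n := by rw [hn']; group
    have hmem : (n : G)⁻¹ * (x * y * x⁻¹) * n ∈ Q i := by
      have h1 := (mem_normalizer_iff.1 (inv_mem n.2) (x * y * x⁻¹)).1 hx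
      simpa using h1
    have hyo2 : orderOf (t.out⁻¹ * y * t.out) = p := by
      have := orderOf_injective (MulAut.conj t.out⁻¹).toMonoidHom (MulAut.conj t.out⁻¹).injective y
      simp only [MulEquiv.toMonoidHom_eq_coe, MonoidHom.coe_coe, MulAut.conj_apply, inv_inv] at this
      rw [this, hyo]
    have hz2 : zpowers (t.out⁻¹ * y * t.out) = Q i :=
      zpowers_eq_of_mem (hQ i) hyo2 (by rw [hc]; exact hmem)
    refine ⟨⟨i, t, t.out⁻¹ * g * t.out, ?_, ?_⟩, by group⟩
    · rw [mem_centralizer_iff]
      intro h hh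
      rw [SetLike.mem_coe, ← hz2, mem_zpowers_iff] at hh
      obtain ⟨k, rfl⟩ := hh
      have hcomm : Commute (t.out⁻¹ * y * t.out) (t.out⁻¹ * g * t.out) := by
        have h1 : Commute y g := by rw [hy]; exact (Commute.refl g).pow_left _
        have := h1.map (MulAut.conj t.out⁻¹).toMonoidHom
        simpa using this
      exact (hcomm.zpow_left k).eq
    · have h2 : t.out⁻¹ * y * t.out = (t.out⁻¹ * g * t.out) ^ (orderOf g / p) := by
        have h1 := map_pow (MulAut.conj t.out⁻¹).toMonoidHom g (orderOf g / p)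
        simpa [hy] using h1
      refine le_of_eq_of_le hz2.symm ?_
      rw [zpowers_le, h2]
      exact pow_mem (mem_zpowers _) _
  choose z hz using hkey
  have hinj : Function.Injective z := by
    intro a b hab
    apply Subtype.ext
    rw [hz a, hz b, hab]
  have hle := Nat.card_le_card_of_injective z hinj
  rw [Nat.card_sigma] at hle
  simpa only [Nat.card_prod, Subgroup.index] using hle

theorem card_sing_le' [Finite G] {ι : Type*} [Fintype ι] (hp : p.Prime) (Q : ι → Subgroup G)
    (hQ : ∀ i, Nat.card (Q i) = p)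
    (hcov : ∀ y : G, orderOf y = p → ∃ i, ∃ x : G, x * y * x⁻¹ ∈ Q i) :
    Nat.card {g : G // p ∣ orderOf g} ≤
      ∑ i, (normalizer (Q i : Set G)).index * (Nat.card (centralizer (Q i : Set G)) - 1) := by
  classical
  refine (card_sing_le hp Q hQ hcov).trans (Finset.sum_le_sum fun i _ => Nat.mul_le_mul_left _ ?_)
  have h1 : Nat.card {c : G // c ∈ centralizer (Q i : Set G) ∧ Q i ≤ zpowers c} <
      Nat.card (centralizer (Q i : Set G)) := by
    have : Fintype G := Fintype.ofFinite G
    let f : {c : G // c ∈ centralizer (Q i : Set G) ∧ Q i ≤ zpowers c} →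
        centralizer (Q i : Set G) := fun c => ⟨c.1, c.2.1⟩
    have hf : Function.Injective f := fun a b h => Subtype.ext (Subtype.mk.inj h)
    rw [Nat.card_eq_fintype_card, Nat.card_eq_fintype_card]
    refine Fintype.card_lt_of_injective_of_notMem f hf (b := 1) ?_
    rintro ⟨⟨c, hc, hc'⟩, hh⟩
    have hc1 : c = 1 := congrArg Subtype.val hh
    rw [hc1, zpowers_one_eq_bot, le_bot_iff] at hc'
    have := hQ i
    rw [hc', Subgroup.card_bot] at this
    exact hp.one_lt.ne this
  omega

theorem card_coprime_add [Finite G] (hp : p.Prime) :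
    Nat.card {g : G // (orderOf g).Coprime p} + Nat.card {g : G // p ∣ orderOf g} = Nat.card G := by
  classical
  have : Fintype G := Fintype.ofFinite G
  have h : ∀ g : G, (orderOf g).Coprime p ↔ ¬ p ∣ orderOf g := fun g => by
    rw [Nat.coprime_comm, Nat.Prime.coprime_iff_not_dvd hp]
  simp only [h]
  rw [Nat.card_eq_fintype_card, Nat.card_eq_fintype_card, Nat.card_eq_fintype_card,
    Fintype.card_subtype, Fintype.card_subtype, add_comm]
  have := Finset.card_filter_add_card_filter_not (s := (Finset.univ : Finset G)) (fun g => p ∣ orderOf g)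
  simpa using this

theorem all_of_card [Finite G] (hp : p.Prime) (h : 2 * Nat.card {g : G // p ∣ orderOf g} < Nat.card G) :
    All p G := by
  apply All.of_half
  have := card_coprime_add (G := G) hp
  omega

/-- refined form -/
theorem all_of_count [Finite G] {ι : Type*} [Fintype ι] (hp : p.Prime) (Q : ι → Subgroup G)
    (hQ : ∀ i, Nat.card (Q i) = p)
    (hcov : ∀ y : G, orderOf y = p → ∃ i, ∃ x : G, x * y * x⁻¹ ∈ Q i)
    (h : 2 * ∑ i, (normalizer (Q i : Set G)).index *
        Nat.card {c : G // c ∈ centralizer (Q i : Set G) ∧ Q i ≤ zpowers c} < Nat.card G) :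
    All p G :=
  all_of_card hp (by have := card_sing_le hp Q hQ hcov; omega)

theorem index_mul_card_mul_relIndex [Finite G] (Q : Subgroup G) :
    (normalizer (Q : Set G)).index * Nat.card (centralizer (Q : Set G)) *
      (centralizer (Q : Set G)).relIndex (normalizer (Q : Set G)) = Nat.card G := by
  have h1 := relIndex_mul_relIndex ⊥ (centralizer (Q : Set G)) (normalizer (Q : Set G)) bot_le
    (centralizer_le_normalizer (Q : Set G))
  rw [relIndex_bot_left, relIndex_bot_left] at h1
  have h2 := (normalizer (Q : Set G)).card_mul_index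
  rw [← h2, ← h1]
  ring

/-- `∑ 1 / |N(Q i) : C(Q i)| ≤ 1/2` -/
theorem all_of_sum [Finite G] {ι : Type*} [Fintype ι] (hp : p.Prime) (Q : ι → Subgroup G)
    (hQ : ∀ i, Nat.card (Q i) = p)
    (hcov : ∀ y : G, orderOf y = p → ∃ i, ∃ x : G, x * y * x⁻¹ ∈ Q i)
    (h : ∑ i, (1 : ℚ) / (centralizer (Q i : Set G)).relIndex (normalizer (Q i : Set G)) ≤ 1 / 2) :
    All p G := by
  classical
  apply all_of_card hp
  have hG : (0 : ℚ) < Nat.card G := by exact_mod_cast Nat.card_pos
  rcases isEmpty_or_nonempty ι with hι | hι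
  · have := card_sing_le' hp Q hQ hcov
    simp only [Finset.univ_eq_empty, Finset.sum_empty, Nat.le_zero] at this
    rw [this]
    exact Nat.card_pos
  have h1 := card_sing_le' hp Q hQ hcov
  have h2 : ∑ i, (normalizer (Q i : Set G)).index * (Nat.card (centralizer (Q i : Set G)) - 1) <
      ∑ i, (normalizer (Q i : Set G)).index * Nat.card (centralizer (Q i : Set G)) := by
    apply Finset.sum_lt_sum_of_nonempty Finset.univ_nonempty
    intro i _
    have h3 : 0 < Nat.card (centralizer (Q i : Set G)) := Nat.card_pos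
    have h4 : 0 < (normalizer (Q i : Set G)).index := Nat.pos_of_ne_zero index_ne_zero_of_finite
    exact Nat.mul_lt_mul_of_pos_left (by omega) h4
  have h3 : ((∑ i, (normalizer (Q i : Set G)).index * Nat.card (centralizer (Q i : Set G)) : ℕ) : ℚ) =
      Nat.card G * ∑ i, (1 : ℚ) / (centralizer (Q i : Set G)).relIndex (normalizer (Q i : Set G)) := by
    rw [Finset.mul_sum]
    push_cast
    apply Finset.sum_congr rfl
    intro i _
    have h4 := index_mul_card_mul_relIndex (Q i)
    have h5 : ((centralizer (Q i : Set G)).relIndex (normalizer (Q i : Set G)) : ℚ) ≠ 0 := by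
      intro h0
      have h0' : (centralizer (Q i : Set G)).relIndex (normalizer (Q i : Set G)) = 0 := by
        exact_mod_cast h0
      rw [h0', mul_zero] at h4
      exact Nat.card_pos.ne h4
    rw [mul_one_div, eq_div_iff h5]
    exact_mod_cast h4
  have h4 : ((2 * Nat.card {g : G // p ∣ orderOf g} : ℕ) : ℚ) < (Nat.card G : ℕ) := by
    calc ((2 * Nat.card {g : G // p ∣ orderOf g} : ℕ) : ℚ)
        < ((2 * ∑ i, (normalizer (Q i : Set G)).index * Nat.card (centralizer (Q i : Set G)) : ℕ) : ℚ) := by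
          exact_mod_cast Nat.mul_lt_mul_of_pos_left (h1.trans_lt h2) (by norm_num)
      _ = 2 * (Nat.card G * ∑ i, (1 : ℚ) /
            (centralizer (Q i : Set G)).relIndex (normalizer (Q i : Set G))) := by
          rw [← h3]; push_cast; ring
      _ ≤ 2 * (Nat.card G * (1 / 2)) := by gcongr
      _ = (Nat.card G : ℕ) := by ring
  exact_mod_cast h4

/-- one class of subgroups of order `p` -/
theorem all_of_one [Finite G] (hp : p.Prime) (Q : Subgroup G) (hQ : Nat.card Q = p)
    (hcov : ∀ y : G, orderOf y = p → ∃ x : G, x * y * x⁻¹ ∈ Q)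
    (hN : ¬ normalizer (Q : Set G) ≤ centralizer (Q : Set G)) : All p G := by
  refine all_of_sum (ι := Unit) hp (fun _ => Q) (fun _ => hQ) (fun y hy => ⟨(), hcov y hy⟩) ?_
  have h1 : (centralizer (Q : Set G)).relIndex (normalizer (Q : Set G)) ≠ 1 := by
    rwa [Ne, relIndex_eq_one]
  have h2 : (centralizer (Q : Set G)).relIndex (normalizer (Q : Set G)) ≠ 0 := by
    intro h0
    have h4 := index_mul_card_mul_relIndex Q
    rw [h0, mul_zero] at h4
    exact Nat.card_pos.ne h4
  have h3 : (2 : ℚ) ≤ (centralizer (Q : Set G)).relIndex (normalizer (Q : Set G)) := by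
    exact_mod_cast (by omega : 2 ≤ (centralizer (Q : Set G)).relIndex (normalizer (Q : Set G)))
  rw [Finset.univ_unique, Finset.sum_singleton]
  exact one_div_le_one_div_of_le (by norm_num) h3

/-- two classes of subgroups of order `p`, `|N : C| ≥ 4` -/
theorem all_of_two [Finite G] (hp : p.Prime) (Q R : Subgroup G) (hQ : Nat.card Q = p) (hR : Nat.card R = p)
    (hcov : ∀ y : G, orderOf y = p → ∃ x : G, x * y * x⁻¹ ∈ Q ∨ x * y * x⁻¹ ∈ R)
    (hN : 4 ≤ (centralizer (Q : Set G)).relIndex (normalizer (Q : Set G)))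
    (hM : 4 ≤ (centralizer (R : Set G)).relIndex (normalizer (R : Set G))) : All p G := by
  refine all_of_sum (ι := Bool) hp (fun b => bif b then Q else R) (fun b => by cases b <;> simpa)
    (fun y hy => ?_) ?_
  · obtain ⟨x, h | h⟩ := hcov y hy
    · exact ⟨true, x, h⟩
    · exact ⟨false, x, h⟩
  · have h1 : (1 : ℚ) / (centralizer (Q : Set G)).relIndex (normalizer (Q : Set G)) ≤ 1 / 4 :=
      one_div_le_one_div_of_le (by norm_num) (by exact_mod_cast hN)
    have h2 : (1 : ℚ) / (centralizer (R : Set G)).relIndex (normalizer (R : Set G)) ≤ 1 / 4 :=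
      one_div_le_one_div_of_le (by norm_num) (by exact_mod_cast hM)
    rw [Fintype.sum_bool]
    simp only [cond_true, cond_false]
    linarith

/-! ### Cyclic Sylow subgroups -/

/-- in a cyclic group two subgroups of the same order coincide -/
theorem eq_of_cyclic {A : Type*} [Group A] [Finite A] [IsCyclic A] (H K : Subgroup A)
    (h : Nat.card H = Nat.card K) : H = K := by
  classical
  have : Fintype A := Fintype.ofFinite A
  have key : ∀ L : Subgroup A, Nat.card L = Nat.card K →
      (L : Set A).toFinset = Finset.univ.filter fun a => a ^ Nat.card K = 1 := by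
    intro L hL
    apply Finset.eq_of_subset_of_card_le
    · intro a ha
      rw [Set.mem_toFinset] at ha
      rw [Finset.mem_filter]
      refine ⟨Finset.mem_univ _, ?_⟩
      have h1 := pow_card_eq_one' (x := (⟨a, ha⟩ : L))
      rw [hL] at h1
      simpa using congrArg Subtype.val h1
    · refine (IsCyclic.card_pow_eq_one_le (α := A) Nat.card_pos).trans ?_
      rw [Set.toFinset_card]
      rw [← hL, Nat.card_eq_fintype_card]
      rfl
  have h1 := (key H h).trans (key K rfl).symm
  apply SetLike.coe_injective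
  simpa using h1

/-- `N(P) ≤ C(P)` if `N(Q) ≤ C(Q)` for the subgroup `Q` of order `p` of the cyclic Sylow subgroup `P` -/
theorem normalizer_le_of_root [Finite G] [Fact p.Prime] (P : Sylow p G) (hP : IsCyclic P)
    (Q : Subgroup G) (hQP : Q ≤ P) (hQ : Nat.card Q = p)
    (hN : normalizer (Q : Set G) ≤ centralizer (Q : Set G)) :
    normalizer (P : Set G) ≤ centralizer (P : Set G) := by
  classical
  have hp : p.Prime := Fact.out
  intro g hg
  have hconj : ∀ x ∈ P, g * x * g⁻¹ ∈ P := fun x hx => (mem_normalizer_iff.1 hg x).1 hx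
  obtain ⟨a, ha⟩ := hP.exists_generator
  obtain ⟨n, hn⟩ := P.2.exists_card_eq
  -- the conjugate of `a`
  obtain ⟨k, hk⟩ : ∃ k : ℤ, g * (a : G) * g⁻¹ = (a : G) ^ k := by
    obtain ⟨k, hk⟩ := mem_zpowers_iff.1 (ha ⟨_, hconj _ a.2⟩)
    exact ⟨k, by simpa using (congrArg Subtype.val hk).symm⟩
  -- hence of all elements of `P`
  have hall : ∀ x ∈ P, g * x * g⁻¹ = x ^ k := by
    intro x hx
    obtain ⟨j, hj⟩ := mem_zpowers_iff.1 (ha ⟨x, hx⟩)
    have hj' : x = (a : G) ^ j := by simpa using (congrArg Subtype.val hj).symm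
    rw [hj', ← conj_zpow, hk, ← zpow_mul, ← zpow_mul, mul_comm]
  -- `g` centralizes `Q`
  have hgQ : g ∈ centralizer (Q : Set G) := by
    apply hN
    have h1 : ∀ x ∈ Q, g * x * g⁻¹ ∈ Q := fun x hx => by
      rw [hall x (hQP hx)]; exact zpow_mem hx k
    rw [mem_normalizer_iff]
    have hmap : Q.map (MulAut.conj g).toMonoidHom = Q := by
      apply Subgroup.eq_of_le_of_card_ge
      · rintro _ ⟨x, hx, rfl⟩
        exact h1 x hx
      · rw [Nat.card_congr (Q.equivMapOfInjective _ (MulAut.conj g).injective).symm.toEquiv]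
    intro x
    refine ⟨h1 x, fun hx => ?_⟩
    rw [← hmap] at hx
    obtain ⟨y, hy, hyx⟩ := hx
    have : y = x := by
      have h2 : g * y * g⁻¹ = g * x * g⁻¹ := hyx
      simpa using h2
    rwa [← this]
  -- so `k ≡ 1` modulo `p`
  have hk1 : (p : ℤ) ∣ k - 1 := by
    obtain ⟨y, hy⟩ : ∃ y : Q, orderOf y = p := by
      apply exists_prime_orderOf_dvd_card' p
      rw [hQ]
    have hyG : orderOf (y : G) = p := by rw [Subgroup.orderOf_coe, hy]
    have h1 := hall y (hQP y.2)
    have h2 : g * (y : G) * g⁻¹ = y := by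
      have := hgQ y y.2
      rw [← this]; group
    rw [h2] at h1
    rw [← hyG, orderOf_dvd_iff_zpow_eq_one, zpow_sub, zpow_one, ← h1, mul_inv_cancel]
  -- powers of `g`
  have hpow : ∀ m : ℕ, ∀ x ∈ P, g ^ m * x * (g ^ m)⁻¹ = x ^ (k ^ m) := by
    intro m
    induction m with
    | zero => intro x _; simp
    | succ m ih =>
      intro x hx
      have h1 : g ^ (m + 1) * x * (g ^ (m + 1))⁻¹ = g * (g ^ m * x * (g ^ m)⁻¹) * g⁻¹ := by
        rw [pow_succ']; group
      rw [h1, ih x hx, hall _ (zpow_mem hx _), ← zpow_mul, pow_succ]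
  have hgp : g ^ p ^ n ∈ centralizer (P : Set G) := by
    rw [mem_centralizer_iff]
    intro x hx
    have h1 := hpow (p ^ n) x hx
    have h2 : ((p : ℤ) ^ n) ∣ k ^ p ^ n - 1 := by
      have h3 := dvd_sub_pow_of_dvd_sub (R := ℤ) (p := p) (a := k) (b := 1) hk1 n
      rw [one_pow] at h3
      exact (pow_dvd_pow _ (Nat.le_succ n)).trans h3
    have h4 : x ^ (k ^ p ^ n - 1) = 1 := by
      rw [← orderOf_dvd_iff_zpow_eq_one]
      have h5 : orderOf x ∣ p ^ n := by
        rw [← hn]
        have := orderOf_dvd_natCard (⟨x, hx⟩ : (P : Subgroup G))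
        rwa [← Subgroup.orderOf_coe] at this
      exact (Int.natCast_dvd_natCast.2 h5).trans (by exact_mod_cast h2)
    have h5 : x ^ k ^ p ^ n = x := by
      have := congrArg (fun y => y * x) h4
      simpa [zpow_sub] using this
    rw [h5] at h1
    calc x * g ^ p ^ n = (g ^ p ^ n * x * (g ^ p ^ n)⁻¹) * g ^ p ^ n := by rw [h1]
      _ = _ := by group
  -- the index of `C(P)` in `N(P)` is prime to `p`
  have hcom : IsMulCommutative (P : Subgroup G) := hP.isMulCommutative
  have hPC : (P : Subgroup G) ≤ centralizer (P : Set G) := le_centralizer (P : Subgroup G)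
  set t := (centralizer (P : Set G)).relIndex (normalizer (P : Set G)) with ht
  have ht1 : t ∣ (P : Subgroup G).index :=
    (relIndex_dvd_of_le_left _ hPC).trans (relIndex_dvd_index_of_le P.le_normalizer)
  have htp : Nat.Coprime (p ^ n) t := by
    apply Nat.Coprime.pow_left
    rw [Nat.Prime.coprime_iff_not_dvd hp]
    exact fun h => P.not_dvd_index (h.trans ht1)
  have hgt : g ^ t ∈ centralizer (P : Set G) :=
    pow_index_mem ((centralizer (P : Set G)).subgroupOf (normalizer (P : Set G))) ⟨g, hg⟩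
  have hb := Nat.isCoprime_iff_coprime.2 htp
  obtain ⟨u, v, huv⟩ := hb
  have hfin : g = (g ^ p ^ n) ^ u * (g ^ t) ^ v := by
    rw [← zpow_natCast, ← zpow_natCast, ← zpow_mul, ← zpow_mul, ← zpow_add]
    have : ((p ^ n : ℕ) : ℤ) * u + (t : ℤ) * v = 1 := by
      rw [← huv]; ring
    rw [this, zpow_one]
  rw [hfin]
  exact mul_mem (zpow_mem hgp _) (zpow_mem hgt _)

/-- Burnside: in a nonabelian simple group with cyclic Sylow `p`-subgroup, `N(Q) ≠ C(Q)` -/
theorem not_normalizer_le [Finite G] [IsSimpleGroup G] (hG : ¬ IsMulCommutative G) [Fact p.Prime]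
    (P : Sylow p G) (hP : IsCyclic P) (Q : Subgroup G) (hQP : Q ≤ P) (hQ : Nat.card Q = p) :
    ¬ normalizer (Q : Set G) ≤ centralizer (Q : Set G) := by
  intro h
  have hp : p.Prime := Fact.out
  have h1 := normalizer_le_of_root P hP Q hQP hQ h
  have h2 := MonoidHom.ker_transferSylow_isComplement' P h1
  rcases (MonoidHom.normal_ker (MonoidHom.transferSylow P h1)).eq_bot_or_eq_top with h3 | h3
  · rw [h3, isComplement'_bot_left] at h2
    apply hG
    have h4 : IsCyclic (⊤ : Subgroup G) := h2 ▸ hP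
    have h5 : IsCyclic G := (Subgroup.topEquiv (G := G)).isCyclic.1 h4
    exact h5.isMulCommutative
  · rw [h3, isComplement'_top_left] at h2
    have h4 : Nat.card Q = 1 := by
      have : Q = ⊥ := by rw [eq_bot_iff, ← h2]; exact hQP
      rw [this, card_bot]
    rw [hQ] at h4
    exact hp.one_lt.ne' h4

/-- **Cyclic Sylow subgroup.** -/
theorem all_of_cyclic [Finite G] [IsSimpleGroup G] (hG : ¬ IsMulCommutative G) [Fact p.Prime]
    (P : Sylow p G) (hP : IsCyclic P) : All p G := by
  classical
  have hp : p.Prime := Fact.out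
  by_cases hd : p ∣ Nat.card G
  · obtain ⟨z, hz⟩ : ∃ z : P, orderOf z = p := by
      apply exists_prime_orderOf_dvd_card' p
      exact P.dvd_card_of_dvd_card hd
    have hzG : orderOf (z : G) = p := by rw [Subgroup.orderOf_coe, hz]
    have hQ : Nat.card (zpowers (z : G)) = p := by rw [Nat.card_zpowers, hzG]
    have hQP : zpowers (z : G) ≤ P := by rw [zpowers_le]; exact z.2
    refine all_of_one hp (zpowers (z : G)) hQ ?_ (not_normalizer_le hG P hP _ hQP hQ)
    intro y hy
    obtain ⟨R, hR⟩ := (IsPGroup.of_card (p := p) (n := 1)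
      (by rw [pow_one, Nat.card_zpowers, hy]) : IsPGroup p (zpowers y)).exists_le_sylow
    obtain ⟨x, hx⟩ := MulAction.exists_smul_eq G R P
    refine ⟨x, ?_⟩
    have hy1 : x * y * x⁻¹ ∈ (P : Subgroup G) := by
      rw [← hx]
      exact (Sylow.smul_def (g := x) (P := R)) ▸ Subgroup.smul_mem_pointwise_smul y (MulAut.conj x) (R : Subgroup G)
        (hR (mem_zpowers y))
    have hyo : orderOf (x * y * x⁻¹) = p := by
      rw [← hy]
      exact orderOf_injective (MulAut.conj x).toMonoidHom (MulAut.conj x).injective y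
    have h1 : zpowers (⟨x * y * x⁻¹, hy1⟩ : P) = zpowers z := by
      apply eq_of_cyclic
      rw [Nat.card_zpowers, Nat.card_zpowers, hz, ← Subgroup.orderOf_coe, hyo]
    have h2 : (⟨x * y * x⁻¹, hy1⟩ : P) ∈ zpowers z := by rw [← h1]; exact mem_zpowers _
    obtain ⟨j, hj⟩ := mem_zpowers_iff.1 h2
    exact mem_zpowers_iff.2 ⟨j, by simpa using congrArg Subtype.val hj⟩
  · intro g
    apply Pr.of_coprime
    exact Nat.Coprime.of_dvd_left (orderOf_dvd_natCard g)
      ((Nat.Prime.coprime_iff_not_dvd hp).2 hd).symm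

/-- `p ^ 2` does not divide the order -/
theorem all_of_not_sq_dvd [Finite G] [IsSimpleGroup G] (hG : ¬ IsMulCommutative G) (hp : p.Prime)
    (h : ¬ p ^ 2 ∣ Nat.card G) : All p G := by
  have : Fact p.Prime := ⟨hp⟩
  let P : Sylow p G := default
  refine all_of_cyclic hG P ?_
  obtain ⟨n, hn⟩ := P.2.exists_card_eq
  have hn1 : n ≤ 1 := by
    by_contra h2
    apply h
    have h3 : p ^ n ∣ Nat.card G := hn ▸ card_subgroup_dvd_card (P : Subgroup G)
    exact (pow_dvd_pow p (by omega)).trans h3
  rcases Nat.lt_or_ge 0 n with h0 | h0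
  · have : n = 1 := by omega
    rw [this, pow_one] at hn
    exact isCyclic_of_prime_card hn
  · have : n = 0 := by omega
    rw [this, pow_zero] at hn
    have := (Nat.card_eq_one_iff_unique.1 hn).1
    exact isCyclic_of_subsingleton

end Cfsg.Agent.H643.PwCnt
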